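import Groth.Agent.FibDim.LocDim
import Groth.Agent.DimFormula.Criteria
import Groth.Agent.DimFormula.QuasiSection

/-!
Dimensions of irreducible schemes locally of finite type over a base.
-/

set_option autoImplicit false
set_option linter.style.haveILetI false
universe u

open AlgebraicGeometry CategoryTheory Order
open Groth.Agent.DimFormula

namespace Groth.Agent.H1Dim

variable {X Y : Scheme.{u}} (f : X ⟶ Y) [LocallyOfFiniteType f]

theorem exists_rd_eq_zero (x : X) : ∃ x', f x' = f x ∧ FibDim.rd f x' = 0 := by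
  haveI : JacobsonSpace ↥(f.fiber (f x)) :=
    LocallyOfFiniteType.jacobsonSpace (f.fiberToSpecResidueField (f x))
  obtain ⟨w, -, hw⟩ := nonempty_inter_closedPoints (Z := (Set.univ : Set ↥(f.fiber (f x))))
    ⟨f.asFiber x, trivial⟩ isClosed_univ.isLocallyClosed
  refine ⟨f.fiberι _ w, FibDim.fiber_apply_fiberι f w, rd_eq_zero_of_closed f fun x' h1 h2 => ?_⟩
  obtain ⟨w', rfl⟩ : x' ∈ Set.range (f.fiberι (f x)) := by
    rw [Scheme.Hom.range_fiberι]
    exact h1.trans (FibDim.fiber_apply_fiberι f w)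
  exact congrArg (f.fiberι (f x)) ((FibDim.fiberι_specializes_iff f w w').1 h2 |>.mem_closed hw rfl)

theorem coe_iSup_add {ι : Type u} [Nonempty ι] (g : ι → ℕ∞) (e : ℕ) :
    (⨆ i, ((g i + e : ℕ∞) : WithBot ℕ∞)) = (⨆ i, (g i : WithBot ℕ∞)) + e := by
  rw [← WithBot.coe_iSup (OrderTop.bddAbove _), ← WithBot.coe_iSup (OrderTop.bddAbove _), ← ENat.iSup_add]
  rfl

variable [IsLocallyNoetherian Y] [IrreducibleSpace X] [IrreducibleSpace Y] [IsDominant f]

theorem codim_add_rd_le (x : X) :
    haveI := LocallyOfFiniteType.isLocallyNoetherian f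
    codim x + FibDim.rd f x ≤ codim (f x) + FibDim.rd f (genericPoint X) ∧
      (CAlg.IsUniversallyCatenary (Y.presheaf.stalk (f x)) →
        codim x + FibDim.rd f x = codim (f x) + FibDim.rd f (genericPoint X)) := by
  haveI := LocallyOfFiniteType.isLocallyNoetherian f
  have h := cd_formula f ((genericPoint_spec X).specializes (Set.mem_univ x))
  rwa [(generic_fibre_dim f).1, cd_eq_codim_of_irreducible, cd_eq_codim_of_irreducible] at h

theorem dim_le : topologicalKrullDim X ≤
    topologicalKrullDim Y + ((FibDim.rd f (genericPoint X) : ℕ∞) : WithBot ℕ∞) := by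
  haveI := LocallyOfFiniteType.isLocallyNoetherian f
  rw [FibDim.topologicalKrullDim_eq_iSup_codim, FibDim.topologicalKrullDim_eq_iSup_codim (X := Y)]
  refine iSup_le fun x => le_trans ?_ (add_le_add (le_iSup _ (f x)) le_rfl)
  exact_mod_cast (Nat.le_add_right _ _).trans (codim_add_rd_le f x).1

theorem dim_eq (hY : ∀ y : Y, CAlg.IsUniversallyCatenary (Y.presheaf.stalk y)) :
    topologicalKrullDim X = (⨆ y ∈ Set.range f.base, ringKrullDim (Y.presheaf.stalk y)) +
      ((FibDim.rd f (genericPoint X) : ℕ∞) : WithBot ℕ∞) := by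
  haveI := LocallyOfFiniteType.isLocallyNoetherian f
  haveI : Nonempty ↥(Set.range f.base) := ⟨⟨_, genericPoint X, rfl⟩⟩
  rw [FibDim.topologicalKrullDim_eq_iSup_codim, iSup_subtype']
  simp only [DimFormula.ringKrullDim_stalk]
  refine le_antisymm (iSup_le fun x => le_trans ?_ (add_le_add (le_iSup _ ⟨f x, x, rfl⟩) le_rfl)) ?_
  · exact_mod_cast (Nat.le_add_right _ _).trans (codim_add_rd_le f x).1
  · refine (coe_iSup_add (fun y : ↥(Set.range f.base) => (codim y.1 : ℕ∞))
      (FibDim.rd f (genericPoint X))).ge.trans (iSup_le ?_)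
    rintro ⟨y, x, rfl⟩
    obtain ⟨x', h1, h2⟩ := exists_rd_eq_zero f x
    have h3 := (codim_add_rd_le f x').2 (hY _)
    rw [h2, h1, add_zero] at h3
    refine le_trans ?_ (le_iSup _ x')
    exact_mod_cast h3.ge

end Groth.Agent.H1Dim
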