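import Groth.Agent.H1Dim.Basic
import Groth.Agent.FibDim.BaseField
import Groth.Agent.DimFormula.ClosedSub
import Groth.Agent.DimFormula.JacobsonLocal
import Groth.Agent.DimFormula.EquidimSub

/-!
Dimension of the zero locus of a function on a scheme over a field.
-/

set_option autoImplicit false
set_option linter.style.haveILetI false
universe u

open AlgebraicGeometry CategoryTheory Order
open Groth.Agent.DimFormula

namespace Groth.Agent.H1Dim

variable {k : Type u} [Field k] {X : Scheme.{u}} (p : X ⟶ Spec (CommRingCat.of k)) [LocallyOfFiniteType p]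

theorem cd_add_rd {η x : X} (h : η ⤳ x) :
    haveI := LocallyOfFiniteType.isLocallyNoetherian p
    cd η x + FibDim.rd p x = FibDim.rd p η := by
  haveI := LocallyOfFiniteType.isLocallyNoetherian p
  haveI := FibDim.subsingleton_spec_field k
  rw [(cd_formula p h).2 (isUniversallyCatenary_stalk_field k _), Subsingleton.elim (p η) (p x), cd_self,
    zero_add]

theorem dim_closed {Z : Set X} (hZ : IsClosed Z) :
    topologicalKrullDim ↥Z = ⨆ z : ↥Z, ((FibDim.rd p z.1 : ℕ∞) : WithBot ℕ∞) := by
  haveI := FibDim.subsingleton_spec_field k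
  rcases Z.eq_empty_or_nonempty with rfl | ⟨x, hx⟩
  · rw [iSup_of_empty, topologicalKrullDim]
    exact krullDim_eq_bot_iff.2 ⟨fun W => W.isIrreducible.nonempty.elim fun w _ => w.2.elim⟩
  have he : Z = Z ∩ p ⁻¹' {p x} := by
    ext z
    exact ⟨fun h => ⟨h, Subsingleton.elim (p z) (p x)⟩, fun h => h.1⟩
  rw [(Homeomorph.setCongr he).isHomeomorph.topologicalKrullDim_eq, FibDim.dim_closed_inter_eq_iSup p (p x) hZ]
  exact ((Homeomorph.setCongr he).symm.toEquiv.iSup_congr fun z => rfl)

/-- On an irreducible closed set, a function cuts out a set of codimension at most one. -/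
theorem exists_rd_le_add_one (f : Γ(X, ⊤)) {η x : X} (h : η ⤳ x) (hx : x ∈ X.zeroLocus (U := ⊤) {f}) :
    ∃ y ∈ X.zeroLocus (U := ⊤) {f}, FibDim.rd p η ≤ FibDim.rd p y + 1 := by
  haveI := LocallyOfFiniteType.isLocallyNoetherian p
  let S : TopologicalSpace.Closeds X := ⟨closure {η}, isClosed_closure⟩
  let j := (Scheme.IdealSheafData.vanishingIdeal S).subschemeι
  have hj : Set.range j = closure {η} := range_vanishingIdeal S
  haveI : IsLocallyNoetherian (Scheme.IdealSheafData.vanishingIdeal S).subscheme :=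
    LocallyOfFiniteType.isLocallyNoetherian j
  obtain ⟨w, hw⟩ : x ∈ Set.range j := hj ▸ specializes_iff_mem_closure.1 h
  have hpre : j ⁻¹' X.zeroLocus (U := ⊤) {f} = Scheme.zeroLocus (U := ⊤) _ {j.appTop f} := by
    ext v
    simp only [Set.mem_preimage, Scheme.mem_zeroLocus_iff, Set.mem_singleton_iff, forall_eq]
    exact not_congr (by rw [← Scheme.preimage_basicOpen_top]; rfl)
  let Z := j ⁻¹' X.zeroLocus (U := ⊤) {f}
  have hZc : IsClosed Z := (X.zeroLocus_isClosed _).preimage j.continuous
  haveI : QuasiSober ↥Z := hZc.isClosedEmbedding_subtypeVal.quasiSober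
  obtain ⟨v, hv, hvmax⟩ := FibDim.exists_maximal_generization (α := ↥Z) ⟨w, by simpa [Z, hw] using hx⟩
  have h1 : codim v.1 ≤ 1 := by
    refine codim_le_one_of_maximal_zeroLocus (j.appTop f) (hpre.le v.2) fun z hz hzZ => ?_
    exact congrArg Subtype.val (hvmax ⟨z, hpre.ge hzZ⟩ ((subtype_specializes_iff _ _).2 hz))
  rw [codim_closedSub_irreducible j hj.symm] at h1
  refine ⟨j v.1, v.2, ?_⟩
  have := cd_add_rd p (specializes_iff_mem_closure.2 (hj ▸ ⟨v.1, rfl⟩) : η ⤳ j v.1)
  omega

end Groth.Agent.H1Dim
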